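import Mathlib
import Cfsg.Agent.H29.PermChain

/-!
Finite checks for the automorphism group of the alternating group of degree six.
-/

set_option autoImplicit false
set_option maxRecDepth 20000

namespace CfsgLib.H29.AutSix

open CfsgLib.H29.PermChain

/-- Evaluation of a word on two tables. -/
def ev (x y : List ℕ) : List Bool → List ℕ
  | [] => idt 6
  | t :: r => comp (bif t then y else x) (ev x y r)

/-- The first generator. -/
def ta : List ℕ := [1,2,0,3,4,5]

/-- The second generator. -/
def tb : List ℕ := [0,2,3,4,5,1]

/-- Words for all the elements. -/
def ws : List (List Bool) :=
  [[], [false], [true],
   [false,false], [false,true], [true,false],
   [true,true], [false,false,true], [false,true,false],
   [false,true,true], [true,false,false], [true,false,true],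
   [true,true,false], [true,true,true], [false,false,true,false],
   [false,false,true,true], [false,true,false,false], [false,true,false,true],
   [false,true,true,false], [false,true,true,true], [true,false,false,true],
   [true,false,true,false], [true,false,true,true], [true,true,false,false],
   [true,true,false,true], [true,true,true,false], [true,true,true,true],
   [false,false,true,false,false], [false,false,true,false,true], [false,false,true,true,false],
   [false,false,true,true,true], [false,true,false,false,true], [false,true,false,true,false],
   [false,true,false,true,true], [false,true,true,false,false], [false,true,true,false,true],
   [false,true,true,true,false], [false,true,true,true,true], [true,false,false,true,false],
   [true,false,false,true,true], [true,false,true,false,false], [true,false,true,false,true],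
   [true,false,true,true,false], [true,false,true,true,true], [true,true,false,false,true],
   [true,true,false,true,false], [true,true,false,true,true], [true,true,true,false,false],
   [true,true,true,false,true], [true,true,true,true,false], [false,false,true,false,false,true],
   [false,false,true,false,true,false], [false,false,true,false,true,true], [false,false,true,true,false,false],
   [false,false,true,true,false,true], [false,false,true,true,true,false], [false,false,true,true,true,true],
   [false,true,false,false,true,false], [false,true,false,false,true,true], [false,true,false,true,false,false],
   [false,true,false,true,false,true], [false,true,false,true,true,false], [false,true,false,true,true,true],
   [false,true,true,false,false,true], [false,true,true,false,true,false], [false,true,true,false,true,true],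
   [false,true,true,true,false,false], [false,true,true,true,false,true], [false,true,true,true,true,false],
   [true,false,false,true,false,false], [true,false,false,true,false,true], [true,false,false,true,true,false],
   [true,false,false,true,true,true], [true,false,true,false,false,true], [true,false,true,false,true,true],
   [true,false,true,true,false,false], [true,false,true,true,false,true], [true,false,true,true,true,false],
   [true,false,true,true,true,true], [true,true,false,false,true,false], [true,true,false,true,false,false],
   [true,true,false,true,false,true], [true,true,false,true,true,false], [true,true,false,true,true,true],
   [true,true,true,false,false,true], [true,true,true,false,true,false], [true,true,true,false,true,true],
   [true,true,true,true,false,true], [false,false,true,false,false,true,false], [false,false,true,false,false,true,true],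
   [false,false,true,false,true,false,false], [false,false,true,false,true,false,true], [false,false,true,false,true,true,false],
   [false,false,true,false,true,true,true], [false,false,true,true,false,false,true], [false,false,true,true,false,true,false],
   [false,false,true,true,false,true,true], [false,false,true,true,true,false,false], [false,false,true,true,true,false,true],
   [false,false,true,true,true,true,false], [false,true,false,false,true,false,false], [false,true,false,false,true,false,true],
   [false,true,false,false,true,true,false], [false,true,false,false,true,true,true], [false,true,false,true,false,false,true],
   [false,true,false,true,false,true,true], [false,true,false,true,true,false,false], [false,true,false,true,true,false,true],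
   [false,true,false,true,true,true,false], [false,true,false,true,true,true,true], [false,true,true,false,false,true,false],
   [false,true,true,false,true,false,false], [false,true,true,false,true,false,true], [false,true,true,false,true,true,false],
   [false,true,true,false,true,true,true], [false,true,true,true,false,false,true], [false,true,true,true,false,true,false],
   [false,true,true,true,false,true,true], [false,true,true,true,true,false,true], [true,false,false,true,false,false,true],
   [true,false,false,true,false,true,true], [true,false,false,true,true,false,false], [true,false,false,true,true,false,true],
   [true,false,false,true,true,true,false], [true,false,false,true,true,true,true], [true,false,true,false,false,true,false],
   [true,false,true,false,false,true,true], [true,false,true,false,true,true,true], [true,false,true,true,false,false,true],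
   [true,false,true,true,false,true,false], [true,false,true,true,false,true,true], [true,false,true,true,true,false,false],
   [true,true,false,false,true,false,false], [true,true,false,false,true,false,true], [true,true,false,true,false,false,true],
   [true,true,false,true,false,true,true], [true,true,false,true,true,false,false], [true,true,false,true,true,false,true],
   [true,true,false,true,true,true,false], [true,true,false,true,true,true,true], [true,true,true,false,true,false,false],
   [true,true,true,false,true,false,true], [true,true,true,false,true,true,false], [true,true,true,true,false,true,false],
   [true,true,true,true,false,true,true], [false,false,true,false,false,true,false,false], [false,false,true,false,false,true,false,true],
   [false,false,true,false,false,true,true,false], [false,false,true,false,false,true,true,true], [false,false,true,false,true,false,false,true],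
   [false,false,true,false,true,false,true,true], [false,false,true,false,true,true,false,false], [false,false,true,false,true,true,false,true],
   [false,false,true,false,true,true,true,false], [false,false,true,false,true,true,true,true], [false,false,true,true,false,false,true,false],
   [false,false,true,true,false,true,false,false], [false,false,true,true,false,true,false,true], [false,false,true,true,false,true,true,false],
   [false,false,true,true,false,true,true,true], [false,false,true,true,true,false,false,true], [false,false,true,true,true,false,true,false],
   [false,false,true,true,true,false,true,true], [false,false,true,true,true,true,false,true], [false,true,false,false,true,false,false,true],
   [false,true,false,false,true,false,true,true], [false,true,false,false,true,true,false,false], [false,true,false,false,true,true,false,true],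
   [false,true,false,false,true,true,true,false], [false,true,false,false,true,true,true,true], [false,true,false,true,false,false,true,false],
   [false,true,false,true,false,false,true,true], [false,true,false,true,true,false,false,true], [false,true,false,true,true,false,true,false],
   [false,true,false,true,true,false,true,true], [false,true,false,true,true,true,false,false], [false,true,true,false,false,true,false,false],
   [false,true,true,false,false,true,false,true], [false,true,true,false,true,false,false,true], [false,true,true,false,true,false,true,true],
   [false,true,true,false,true,true,false,false], [false,true,true,false,true,true,false,true], [false,true,true,false,true,true,true,false],
   [false,true,true,false,true,true,true,true], [false,true,true,true,false,true,false,false], [false,true,true,true,false,true,false,true],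
   [false,true,true,true,false,true,true,false], [false,true,true,true,true,false,true,false], [false,true,true,true,true,false,true,true],
   [true,false,false,true,false,false,true,false], [true,false,false,true,false,true,true,true], [true,false,false,true,true,false,false,true],
   [true,false,false,true,true,false,true,false], [true,false,false,true,true,false,true,true], [true,false,false,true,true,true,false,true],
   [true,false,true,false,false,true,false,true], [true,false,true,false,false,true,true,false], [true,false,true,false,false,true,true,true],
   [true,false,true,false,true,true,true,false], [true,false,true,false,true,true,true,true], [true,false,true,true,false,false,true,false],
   [true,false,true,true,false,true,false,false], [true,false,true,true,false,true,false,true], [true,false,true,true,false,true,true,false],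
   [true,false,true,true,true,false,false,true], [true,true,false,false,true,false,true,true], [true,true,false,true,false,false,true,false],
   [true,true,false,true,false,false,true,true], [true,true,false,true,false,true,true,true], [true,true,false,true,true,false,false,true],
   [true,true,false,true,true,false,true,false], [true,true,false,true,true,true,false,false], [true,true,true,false,true,false,false,true],
   [true,true,true,false,true,false,true,true], [true,true,true,false,true,true,false,false], [true,true,true,true,false,true,false,true],
   [true,true,true,true,false,true,true,false], [false,false,true,false,false,true,false,false,true], [false,false,true,false,false,true,false,true,true],
   [false,false,true,false,false,true,true,false,false], [false,false,true,false,false,true,true,false,true], [false,false,true,false,false,true,true,true,false],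
   [false,false,true,false,false,true,true,true,true], [false,false,true,false,true,false,false,true,false], [false,false,true,false,true,false,false,true,true],
   [false,false,true,false,true,true,false,false,true], [false,false,true,false,true,true,false,true,false], [false,false,true,false,true,true,false,true,true],
   [false,false,true,false,true,true,true,false,false], [false,false,true,true,false,false,true,false,false], [false,false,true,true,false,false,true,false,true],
   [false,false,true,true,false,true,false,false,true], [false,false,true,true,false,true,false,true,true], [false,false,true,true,false,true,true,false,false],
   [false,false,true,true,false,true,true,false,true], [false,false,true,true,false,true,true,true,true], [false,false,true,true,true,false,true,false,false],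
   [false,false,true,true,true,false,true,true,false], [false,false,true,true,true,true,false,true,false], [false,false,true,true,true,true,false,true,true],
   [false,true,false,false,true,false,false,true,false], [false,true,false,false,true,false,true,true,true], [false,true,false,false,true,true,false,false,true],
   [false,true,false,false,true,true,false,true,false], [false,true,false,false,true,true,false,true,true], [false,true,false,false,true,true,true,false,true],
   [false,true,false,true,false,false,true,true,false], [false,true,false,true,false,false,true,true,true], [false,true,false,true,true,false,false,true,false],
   [false,true,false,true,true,false,true,false,false], [false,true,false,true,true,false,true,false,true], [false,true,false,true,true,false,true,true,false],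
   [false,true,false,true,true,true,false,false,true], [false,true,true,false,false,true,false,true,true], [false,true,true,false,true,false,false,true,false],
   [false,true,true,false,true,false,false,true,true], [false,true,true,false,true,false,true,true,true], [false,true,true,false,true,true,false,false,true],
   [false,true,true,false,true,true,false,true,false], [false,true,true,false,true,true,true,false,false], [false,true,true,true,false,true,false,false,true],
   [false,true,true,true,false,true,false,true,true], [false,true,true,true,true,false,true,false,true], [false,true,true,true,true,false,true,true,false],
   [true,false,false,true,false,true,true,true,false], [true,false,false,true,true,false,true,false,false], [true,false,false,true,true,false,true,false,true],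
   [true,false,false,true,true,false,true,true,false], [true,false,false,true,true,false,true,true,true], [true,false,false,true,true,true,false,true,false],
   [true,false,false,true,true,true,false,true,true], [true,false,true,false,false,true,false,true,true], [true,false,true,false,false,true,true,false,false],
   [true,false,true,false,false,true,true,true,false], [true,false,true,false,false,true,true,true,true], [true,false,true,true,false,false,true,false,false],
   [true,false,true,true,false,true,false,false,true], [true,false,true,true,false,true,false,true,true], [true,false,true,true,false,true,true,false,false],
   [true,true,false,false,true,false,true,true,true], [true,true,false,true,false,false,true,false,true], [true,true,false,true,false,false,true,true,false],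
   [true,true,false,true,false,true,true,true,false], [true,true,false,true,false,true,true,true,true], [true,true,false,true,true,false,false,true,false],
   [true,true,false,true,true,false,true,false,false], [true,true,false,true,true,true,false,false,true], [true,true,true,false,true,false,false,true,false],
   [true,true,true,false,true,false,false,true,true], [true,true,true,false,true,true,false,false,true], [true,true,true,true,false,true,false,true,true],
   [true,true,true,true,false,true,true,false,false], [false,false,true,false,false,true,false,false,true,false], [false,false,true,false,false,true,true,false,false,true],
   [false,false,true,false,false,true,true,false,true,false], [false,false,true,false,false,true,true,false,true,true], [false,false,true,false,false,true,true,true,false,true],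
   [false,false,true,false,true,false,false,true,true,false], [false,false,true,false,true,false,false,true,true,true], [false,false,true,false,true,true,false,false,true,false],
   [false,false,true,false,true,true,false,true,false,true], [false,false,true,false,true,true,true,false,false,true], [false,false,true,true,false,false,true,false,true,true],
   [false,false,true,true,false,true,false,false,true,false], [false,false,true,true,false,true,false,false,true,true], [false,false,true,true,false,true,false,true,true,true],
   [false,false,true,true,false,true,true,false,false,true], [false,false,true,true,false,true,true,false,true,false], [false,false,true,true,true,true,false,true,true,false],
   [false,true,false,false,true,true,false,true,false,false], [false,true,false,false,true,true,false,true,true,true], [false,true,false,false,true,true,true,false,true,false],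
   [false,true,false,false,true,true,true,false,true,true], [false,true,false,true,false,false,true,true,false,false], [false,true,false,true,false,false,true,true,true,false],
   [false,true,false,true,false,false,true,true,true,true], [false,true,false,true,true,false,false,true,false,false], [false,true,false,true,true,false,true,false,false,true],
   [false,true,false,true,true,false,true,false,true,true], [false,true,false,true,true,false,true,true,false,false], [false,true,true,false,false,true,false,true,true,true],
   [false,true,true,false,true,false,false,true,false,true], [false,true,true,false,true,false,false,true,true,false], [false,true,true,false,true,false,true,true,true,false],
   [false,true,true,false,true,true,true,false,false,true], [false,true,true,true,false,true,false,false,true,true], [false,true,true,true,true,false,true,true,false,false],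
   [true,false,false,true,true,false,true,false,false,true], [true,false,false,true,true,false,true,false,true,true], [true,false,false,true,true,false,true,true,false,false],
   [true,false,false,true,true,false,true,true,false,true], [true,false,false,true,true,true,false,true,true,false], [true,false,true,false,false,true,false,true,true,true],
   [true,false,true,false,false,true,true,true,false,true], [true,false,true,true,false,true,false,false,true,false], [true,false,true,true,false,true,false,false,true,true],
   [true,false,true,true,false,true,true,false,false,true], [true,true,false,true,false,false,true,true,false,false], [true,true,false,true,true,false,false,true,false,false],
   [true,true,true,false,true,false,false,true,false,true], [true,true,true,false,true,false,false,true,true,false], [true,true,true,false,true,true,false,false,true,false],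
   [false,false,true,false,false,true,true,false,true,false,false], [false,false,true,false,false,true,true,false,true,true,true], [false,false,true,false,false,true,true,true,false,true,false],
   [false,false,true,false,true,false,false,true,true,true,true], [false,false,true,false,true,true,false,false,true,false,false], [false,false,true,true,false,false,true,false,true,true,true],
   [false,false,true,true,false,true,false,false,true,true,false], [false,false,true,true,true,true,false,true,true,false,false], [false,true,false,false,true,true,true,false,true,true,false],
   [false,true,false,true,false,false,true,true,true,false,true], [false,true,false,true,true,false,true,false,false,true,false], [false,true,false,true,true,false,true,true,false,false,true],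
   [true,false,false,true,true,false,true,false,false,true,true], [true,false,false,true,true,false,true,true,false,false,true], [true,false,true,false,false,true,true,true,false,true,true],
   [true,false,true,true,false,true,false,false,true,false,true], [false,true,false,true,false,false,true,true,true,false,true,true], [false,true,false,true,true,false,true,false,false,true,false,true]]

/-- A Sylow subgroup. -/
def sylD : List (List ℕ) :=
  [[0,1,2,3,4,5], [0,3,2,1,5,4], [1,0,3,2,4,5], [1,2,3,0,5,4], [2,1,0,3,5,4], [2,3,0,1,4,5], [3,0,1,2,5,4], [3,2,1,0,4,5]]

/-- Its elements as words. -/
def sylW : List (List Bool) :=
  [[], [false,true,false,true,true,false,true,false,false,true,false], [false,false,true,false,true,true,true,true], [true,false,true,true,false,true,false,false,true], [false,true,true,true,false,true,false,false,true], [false,false,true,true,false,true,false,true], [false,false,true,true,false,false,true,false,true,true], [false,true,false,false,true,true,true,true]]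

/-- Chosen images of the generators. -/
def pairs : List (List Bool × List Bool) :=
  [([true,true,false,true,false,true], [false,false,true,false,true,true,true,false]),
   ([false,false], [true,false,false]),
   ([false,false,true,false,false,true,true,true,true], [false,true,true,false,true]),
   ([true,false,false,true,true,true,true], [true,false,false,true,true,false,true,true,false,false]),
   ([false,true,true,false], [true,false,true,true,false,true,false,false,true,true]),
   ([false,false,true,true,true,true,false,true,true,false,false], [false,true,false,true,true,true,false,false,true]),
   ([false,true,false,false,true,false,false,true], [false,false,true,true,true,false,true]),
   ([false,true,false,true,true,false,false], [false,true,false,true,false,false,true,true,true,false])]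

/-- All the elements. -/
def els : List (List ℕ) := ws.map (ev ta tb)

/-- Powers. -/
def pw (x : List ℕ) : ℕ → List ℕ
  | 0 => idt 6
  | n + 1 => comp (pw x n) x

/-- The relations on images of the generators. -/
def rel (x y : List ℕ) : Bool :=
  !(x == idt 6) && !(y == idt 6) && pw x 3 == idt 6 && pw y 5 == idt 6 &&
    pw (comp x y) 4 == idt 6 && pw (comp (comp x y) y) 4 == idt 6

/-- The possible images. -/
def imgs : List (List ℕ × List ℕ) :=
  let A := els.filter fun x => !(x == idt 6) && pw x 3 == idt 6
  let B := els.filter fun y => !(y == idt 6) && pw y 5 == idt 6
  A.flatMap fun x => (B.filter fun y => rel x y).map fun y => (x, y)

theorem cover : ∀ g : Equiv.Perm (Fin 6), Equiv.Perm.sign g = 1 → els.contains (tab g) = true := by
  decide +kernel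

theorem gens_ok : rel ta tb = true ∧ els.contains ta = true ∧ els.contains tb = true := by decide +kernel

theorem imgs_len : imgs.length = 1440 := by decide +kernel

theorem syl_ok : sylW.map (ev ta tb) = sylD ∧ sylD.Nodup ∧
    (sylD.all fun x => sylD.all fun y => sylD.contains (comp x y)) = true ∧
    sylD.contains (idt 6) = true ∧ sylD.length = 8 := by decide +kernel

/-- Every element normalising the subgroup lies in it. -/
def selfNorm : Bool := els.all fun g => sylD.contains g ||
  !(sylD.all fun d => sylD.contains (comp (comp g d) (invt g)))

theorem self_norm : selfNorm = true := by decide +kernel

/-- Some nontrivial automorphism normalises the subgroup and any given conjugate. -/
def moveOk : Bool :=
  let P := pairs.map fun p => (ev ta tb p.1, ev ta tb p.2)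
  P.all (fun p => !(p == (ta, tb)) && rel p.1 p.2 && sylW.all fun w => sylD.contains (ev p.1 p.2 w)) &&
  ws.all fun w => P.any fun p => (sylD.map (comp (ev ta tb w))).contains (ev p.1 p.2 w)

theorem move_ok : moveOk = true := by decide +kernel

end CfsgLib.H29.AutSix
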